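import Mathlib
import Cfsg.Agent.Lib.Char.NormAverage

/-!
A family of nonzero algebraic integers in a cyclotomic field whose conjugates all have square sum
at most `r` has at most `r` members.
-/

set_option autoImplicit false
set_option linter.unusedSectionVars false

namespace Cfsg.Agent.Block.KGV

open Polynomial

/-- Combinations of `N`-th roots of unity. -/
noncomputable def cycSpan (N : ℕ) : IntermediateField ℚ ℂ :=
  IntermediateField.adjoin ℚ {Complex.exp (2 * Real.pi * Complex.I / (N : ℂ))}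

theorem root_mem_cycSpan {N : ℕ} (hN : 0 < N) {z : ℂ} (hz : z ^ N = 1) : z ∈ cycSpan N := by
  haveI : NeZero N := ⟨hN.ne'⟩
  obtain ⟨i, -, rfl⟩ := (Complex.isPrimitiveRoot_exp N hN.ne').eq_pow_of_pow_eq_one hz
  exact pow_mem (IntermediateField.mem_adjoin_simple_self ℚ _) i

/-- Every complex root of the minimal polynomial of an element of a cyclotomic field is a conjugate
under an automorphism of `ℂ` acting as a power map on the roots of unity. -/
theorem exists_conjugate {N : ℕ} (hN : 0 < N) {x : ℂ} (hx : x ∈ cycSpan N) {r : ℂ}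
    (hr : aeval r (minpoly ℚ x) = 0) : ∃ σ : ℂ ≃+* ℂ, σ x = r := by
  haveI : NeZero N := ⟨hN.ne'⟩
  set ζ := Complex.exp (2 * Real.pi * Complex.I / (N : ℂ)) with hζdef
  have hζ : IsPrimitiveRoot ζ N := Complex.isPrimitiveRoot_exp N hN.ne'
  have hint : IsIntegral ℚ ζ := (hζ.isIntegral hN).tower_top
  let K := cycSpan N
  haveI : FiniteDimensional ℚ K := IntermediateField.adjoin.finiteDimensional hint
  have hmin : minpoly ℚ (⟨x, hx⟩ : K) = minpoly ℚ x :=
    (minpoly.algebraMap_eq (algebraMap K ℂ).injective (⟨x, hx⟩ : K)).symm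
  have hmem : r ∈ (minpoly ℚ (⟨x, hx⟩ : K)).rootSet ℂ := by
    rw [hmin, Polynomial.mem_rootSet']
    refine ⟨?_, hr⟩
    exact Polynomial.map_ne_zero (hmin ▸ minpoly.ne_zero (IsIntegral.of_finite ℚ (⟨x, hx⟩ : K)))
  rw [← Algebra.IsAlgebraic.range_eval_eq_rootSet_minpoly ℂ (⟨x, hx⟩ : K)] at hmem
  obtain ⟨f, hf⟩ := hmem
  let g : K := ⟨ζ, IntermediateField.mem_adjoin_simple_self ℚ ζ⟩
  have hgN : g ^ N = 1 := Subtype.ext (by simpa using hζ.pow_eq_one)
  have hgprim : IsPrimitiveRoot g N :=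
    IsPrimitiveRoot.of_map_of_injective (f := algebraMap K ℂ) hζ (algebraMap K ℂ).injective
  have hfprim : IsPrimitiveRoot (f g) N := hgprim.map_of_injective f.injective
  obtain ⟨k, hk, hkc, hkζ⟩ := (hζ.isPrimitiveRoot_iff).mp hfprim
  obtain ⟨σ, hσ⟩ := Cfsg.Agent.Char.exists_ringAut_pow N k hN hkc
  refine ⟨σ, ?_⟩
  have key : ∀ (y : ℂ) (hy : y ∈ K), σ y = f ⟨y, hy⟩ := by
    intro y hy
    induction hy using IntermediateField.adjoin_induction with
    | mem z hz =>
      rw [Set.mem_singleton_iff] at hz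
      subst hz
      rw [hσ _ hζ.pow_eq_one, hkζ]
    | algebraMap q =>
      rw [show f ⟨algebraMap ℚ ℂ q, IntermediateField.algebraMap_mem _ q⟩ = algebraMap ℚ ℂ q from
        f.commutes q, eq_ratCast, map_ratCast]
    | add a b ha hb iha ihb =>
      rw [map_add, iha, ihb, ← map_add]
      rfl
    | inv a ha iha =>
      rw [map_inv₀, iha, ← map_inv₀]
      rfl
    | mul a b ha hb iha ihb =>
      rw [map_mul, iha, ihb, ← map_mul]
      rfl
  rw [key x hx]
  exact hf

/-- A nonzero algebraic integer of a cyclotomic field has a conjugate of absolute value at least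
one. -/
theorem exists_one_le_conjugate {N : ℕ} (hN : 0 < N) {x : ℂ} (hx : x ∈ cycSpan N)
    (hxi : IsIntegral ℤ x) (hx0 : x ≠ 0) : ∃ σ : ℂ ≃+* ℂ, 1 ≤ ‖σ x‖ := by
  by_contra hall
  push_neg at hall
  have hQ : IsIntegral ℚ x := hxi.tower_top
  have hmap : minpoly ℚ x = (minpoly ℤ x).map (algebraMap ℤ ℚ) :=
    minpoly.isIntegrallyClosed_eq_field_fractions' ℚ hxi
  set P := (minpoly ℚ x).map (algebraMap ℚ ℂ) with hP
  have hmon : P.Monic := (minpoly.monic hQ).map _
  have hsplit : P.Splits := IsAlgClosed.splits P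
  have hroots : ∀ r ∈ P.roots, ‖r‖ < 1 := by
    intro r hr
    rw [Polynomial.mem_roots', Polynomial.IsRoot.def, hP, Polynomial.eval_map_algebraMap] at hr
    obtain ⟨σ, rfl⟩ := exists_conjugate hN hx hr.2
    exact hall σ
  have hdeg : P.roots ≠ 0 := by
    intro h0
    have := Polynomial.splits_iff_card_roots.mp hsplit
    rw [h0, Multiset.card_zero, hP, Polynomial.natDegree_map] at this
    exact (minpoly.natDegree_pos hQ).ne this
  have hlt : ‖P.coeff 0‖ < 1 := by
    rw [hsplit.coeff_zero_eq_prod_roots_of_monic hmon, norm_mul, norm_pow, norm_neg, norm_one,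
      one_pow, one_mul, show ‖Multiset.prod P.roots‖ = (P.roots.map norm).prod from
        map_multiset_prod (normHom : ℂ →*₀ ℝ) _]
    obtain ⟨r, hr⟩ := Multiset.exists_mem_of_ne_zero hdeg
    obtain ⟨s, hs⟩ := Multiset.exists_cons_of_mem hr
    rw [hs, Multiset.map_cons, Multiset.prod_cons]
    have hs' : (s.map norm).prod ≤ 1 := by
      clear hr
      have hmem : ∀ b ∈ s, ‖b‖ ≤ 1 := fun b hb =>
        (hroots b (hs ▸ Multiset.mem_cons_of_mem hb)).le
      clear hs
      induction s using Multiset.induction_on with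
      | empty => simp
      | cons b s ih =>
        rw [Multiset.map_cons, Multiset.prod_cons]
        exact mul_le_one₀ (hmem b (Multiset.mem_cons_self b s))
          (Multiset.prod_nonneg fun a ha => by
            obtain ⟨c, -, rfl⟩ := Multiset.mem_map.mp ha
            exact norm_nonneg c)
          (ih fun c hc => hmem c (Multiset.mem_cons_of_mem hc))
    calc ‖r‖ * (s.map norm).prod ≤ ‖r‖ * 1 := mul_le_mul_of_nonneg_left hs' (norm_nonneg r)
      _ < 1 := by rw [mul_one]; exact hroots r hr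
  have hc : P.coeff 0 = (((minpoly ℤ x).coeff 0 : ℤ) : ℂ) := by
    rw [hP, hmap, Polynomial.map_map, Polynomial.coeff_map]
    simp
  have hne : (minpoly ℤ x).coeff 0 ≠ 0 := by
    intro h0
    refine minpoly.coeff_zero_ne_zero hQ hx0 ?_
    rw [hmap, Polynomial.coeff_map, h0, map_zero]
  rw [hc, Complex.norm_intCast] at hlt
  have : |(minpoly ℤ x).coeff 0| < 1 := by exact_mod_cast hlt
  exact hne (Int.abs_lt_one_iff.mp this)

/-- The counting lemma. -/
theorem card_le_of_conjugates {ι : Type*} [Fintype ι] {N : ℕ} (hN : 0 < N) (m : ι → ℂ)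
    (hmem : ∀ i, m i ∈ cycSpan N) (hint : ∀ i, IsIntegral ℤ (m i)) (hne : ∀ i, m i ≠ 0) {r : ℝ}
    (hbound : ∀ σ : ℂ ≃+* ℂ, ∑ i, Complex.normSq (σ (m i)) ≤ r) : (Fintype.card ι : ℝ) ≤ r := by
  obtain ⟨σ, hσ⟩ := exists_one_le_conjugate hN (prod_mem fun i (_ : i ∈ Finset.univ) => hmem i)
    (IsIntegral.prod _ fun i _ => hint i)
    (Finset.prod_ne_zero_iff.mpr fun i _ => hne i)
  refine le_trans ?_ (hbound σ)
  rw [← Finset.card_univ]
  refine (Cfsg.Agent.Char.NormAvg.card_le_of_prod Finset.univ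
    (fun i => Complex.normSq (σ (m i))) (fun i _ => Complex.normSq_pos.mpr (fun h => hne i
      ((map_eq_zero σ).mp h))) ?_).1
  rw [map_prod, Complex.norm_prod] at hσ
  calc (1 : ℝ) = 1 ^ 2 := by norm_num
    _ ≤ (∏ i, ‖σ (m i)‖) ^ 2 := by gcongr
    _ = _ := by rw [← Finset.prod_pow]; exact Finset.prod_congr rfl fun i _ =>
        (Complex.normSq_eq_norm_sq _).symm

end Cfsg.Agent.Block.KGV
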