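import Mathlib
import Cfsg.Agent.Lib.Char.ModP

/-!
For an abelian group acting coprimely on an abelian `p`-group `W`: a combination of linear
characters which is `1` at the identity, divisible by `p` at elements moving `W`, and whose
conjugates have squared absolute value at most `|W| / |C_W(y)|`.  It is a product of Gauss sums.
-/

set_option autoImplicit false
set_option linter.unusedSectionVars false

namespace Cfsg.Agent.Block.KGV

open Cfsg Cfsg.Agent.Char

universe u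

theorem sum_gen_eq_neg_one {F : Type*} [Field F] [Fintype F] (ψ : AddChar F ℂ) (hψ : ψ ≠ 1)
    {g : Fˣ} (hg : ∀ x : Fˣ, x ∈ Subgroup.zpowers g) {a : F} (ha : a ≠ 0) :
    ∑ j ∈ Finset.range (Fintype.card F - 1), ψ (a * (g : F) ^ j) = -1 := by
  classical
  have hord : orderOf g = Fintype.card F - 1 := by
    rw [orderOf_eq_card_of_forall_mem_zpowers hg, Nat.card_units, Nat.card_eq_fintype_card]
  have h1 : ∑ j ∈ Finset.range (Fintype.card F - 1), ψ (a * (g : F) ^ j) =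
      ∑ x ∈ Finset.univ.erase (0 : F), ψ x := by
    refine Finset.sum_bij (fun j _ => a * (g : F) ^ j) (fun j _ => ?_) (fun i hi j hj h => ?_)
      (fun x hx => ?_) (fun j _ => rfl)
    · exact Finset.mem_erase.mpr ⟨mul_ne_zero ha (pow_ne_zero _ g.ne_zero), Finset.mem_univ _⟩
    · have h' : g ^ i = g ^ j := Units.ext (by simpa using mul_left_cancel₀ ha h)
      exact pow_injOn_Iio_orderOf (by simpa [hord] using hi) (by simpa [hord] using hj) h'
    · have hx0 : x ≠ 0 := (Finset.mem_erase.mp hx).1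
      have hmem := hg (Units.mk0 (a⁻¹ * x) (mul_ne_zero (inv_ne_zero ha) hx0))
      rw [← mem_powers_iff_mem_zpowers, mem_powers_iff_mem_range_orderOf, Finset.mem_image] at hmem
      obtain ⟨j, hj, hje⟩ := hmem
      refine ⟨j, by simpa [hord] using hj, ?_⟩
      have := congrArg (Units.val) hje
      simp only [Units.val_pow_eq_pow_val, Units.val_mk0] at this
      rw [this, mul_inv_cancel_left₀ ha]
  rw [h1, Finset.sum_erase_eq_sub (Finset.mem_univ _), AddChar.sum_eq_zero_of_ne_one hψ,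
    AddChar.map_zero_eq_one, zero_sub]

theorem gauss_normSq {F : Type*} [Field F] [Fintype F] (ψ : AddChar F ℂ) (hψ : ψ ≠ 1) {g : Fˣ}
    (hg : ∀ x : Fˣ, x ∈ Subgroup.zpowers g) {ω : ℂ} (hω : ω ≠ 1)
    (hω' : ω ^ (Fintype.card F - 1) = 1) :
    Complex.normSq (∑ j ∈ Finset.range (Fintype.card F - 1), ψ ((g : F) ^ j) * ω ^ j) =
      (Fintype.card F : ℝ) := by
  classical
  have hord : orderOf g = Fintype.card F - 1 := by
    rw [orderOf_eq_card_of_forall_mem_zpowers hg, Nat.card_units, Nat.card_eq_fintype_card]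
  set L := Fintype.card F - 1 with hL
  have hL0 : 0 < L := hord ▸ orderOf_pos g
  haveI : NeZero L := ⟨hL0.ne'⟩
  have hgL : (g : F) ^ L = 1 := by
    rw [← Units.val_pow_eq_pow_val, ← hord, pow_orderOf_eq_one, Units.val_one]
  have hωn : ‖ω‖ = 1 := by
    refine (pow_eq_one_iff_of_nonneg (norm_nonneg ω) hL0.ne').mp ?_
    rw [← norm_pow, hω', norm_one]
  have hsum1 : ∑ j ∈ Finset.range L, ω ^ j = 0 := by
    rw [geom_sum_eq hω, hω', sub_self, zero_div]
  -- a sum over the units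
  have hunits : ∀ a : F, a ≠ 0 → ∑ j ∈ Finset.range L, ψ (a * (g : F) ^ j) = -1 := fun a ha =>
    sum_gen_eq_neg_one ψ hψ hg ha
  set S := ∑ j ∈ Finset.range L, ψ ((g : F) ^ j) * ω ^ j with hS
  have hconj : ∀ x : F, (starRingEnd ℂ) (ψ x) = ψ (-x) := fun x => (AddChar.map_neg_eq_conj ψ x).symm
  have key : S * (starRingEnd ℂ) S = (Fintype.card F : ℂ) := by
    have hprod : S * (starRingEnd ℂ) S =
        ∑ k ∈ Finset.range L, ∑ j ∈ Finset.range L,
          ψ ((g : F) ^ j - (g : F) ^ k) * (ω ^ j * ω ^ (L - k)) := by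
      rw [hS, map_sum, Finset.mul_sum]
      refine Finset.sum_congr rfl fun k hk => ?_
      rw [Finset.sum_mul]
      refine Finset.sum_congr rfl fun j _ => ?_
      have hk' : k ≤ L := (Finset.mem_range.mp hk).le
      rw [map_mul (starRingEnd ℂ) (ψ _), hconj, sub_eq_add_neg, AddChar.map_add_eq_mul, map_pow (starRingEnd ℂ) ω]
      have hc : (starRingEnd ℂ) ω = ω ^ (L - 1) := by
        refine mul_left_cancel₀ (show ω ≠ 0 from fun h => by simp [h] at hωn) ?_
        rw [Complex.mul_conj, Complex.normSq_eq_norm_sq, hωn, ← pow_succ', Nat.sub_add_cancel hL0,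
          hω']
        simp
      have e : ((starRingEnd ℂ) ω) ^ k = ω ^ (L - k) := by
        have h1 : ω ^ k * ω ^ (L - k) = 1 := by rw [← pow_add, Nat.add_sub_cancel' hk', hω']
        have h2 : ω ^ k * ((starRingEnd ℂ) ω) ^ k = 1 := by
          rw [← mul_pow, hc, ← pow_succ', Nat.sub_add_cancel hL0, hω', one_pow]
        exact mul_left_cancel₀ (pow_ne_zero k fun h => by simp [h] at hωn) (h2.trans h1.symm)
      rw [e]
      ring
    have hshift : ∀ k ∈ Finset.range L, (∑ j ∈ Finset.range L,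
          ψ ((g : F) ^ j - (g : F) ^ k) * (ω ^ j * ω ^ (L - k))) =
        ∑ d ∈ Finset.range L, ψ (((g : F) ^ d - 1) * (g : F) ^ k) * ω ^ d := by
      intro k hk
      have hk' : k ≤ L := (Finset.mem_range.mp hk).le
      refine (Finset.sum_bij (fun d _ => (d + k) % L) (fun d _ => Finset.mem_range.mpr
        (Nat.mod_lt _ hL0)) (fun a ha b hb h => ?_) (fun j hj => ?_) (fun d _ => ?_)).symm
      · have h' : a ≡ b [MOD L] := Nat.ModEq.add_right_cancel' k h
        exact Nat.ModEq.eq_of_lt_of_lt h' (Finset.mem_range.mp ha) (Finset.mem_range.mp hb)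
      · refine ⟨(j + (L - k)) % L, Finset.mem_range.mpr (Nat.mod_lt _ hL0), ?_⟩
        rw [Nat.mod_add_mod, add_assoc, Nat.sub_add_cancel hk', Nat.add_mod_right,
          Nat.mod_eq_of_lt (Finset.mem_range.mp hj)]
      · have e1 : (g : F) ^ ((d + k) % L) = (g : F) ^ d * (g : F) ^ k := by
          rw [← pow_add]
          exact (pow_eq_pow_mod (d + k) hgL).symm
        have e2 : ω ^ ((d + k) % L) = ω ^ d * ω ^ k := by
          rw [← pow_add]
          exact (pow_eq_pow_mod (d + k) hω').symm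
        rw [e1, e2, sub_mul, one_mul, mul_assoc (ω ^ d), ← pow_add ω k, Nat.add_sub_cancel' hk', hω',
          mul_one]
    rw [hprod, Finset.sum_congr rfl hshift, Finset.sum_comm]
    have hinner : ∀ d ∈ Finset.range L,
        (∑ k ∈ Finset.range L, ψ (((g : F) ^ d - 1) * (g : F) ^ k) * ω ^ d) =
        (if d = 0 then (L : ℂ) + 1 else 0) - ω ^ d := by
      intro d hd
      split_ifs with h0
      · subst h0
        simp [AddChar.map_zero_eq_one]
      · have hne : (g : F) ^ d - 1 ≠ 0 := by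
          intro h
          have h' : g ^ d = 1 := Units.ext (by simpa using sub_eq_zero.mp h)
          have := Nat.le_of_dvd (Nat.pos_of_ne_zero h0) (orderOf_dvd_of_pow_eq_one h')
          rw [hord] at this
          exact absurd (Finset.mem_range.mp hd) (not_lt.mpr this)
        rw [← Finset.sum_mul, hunits _ hne]
        ring
    rw [Finset.sum_congr rfl hinner, Finset.sum_sub_distrib, hsum1, sub_zero, Finset.sum_ite_eq',
      if_pos (Finset.mem_range.mpr hL0), hL, Nat.cast_sub Fintype.card_pos]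
    push_cast
    ring
  rw [Complex.mul_conj] at key
  exact_mod_cast key

variable {X : Type u} [Group X]

/-- The value of a combination of linear characters. -/
noncomputable def ev {H : Subgroup X} {ι : Type} [Fintype ι] (c : ι → ℂ) (lam : ι → (H →* ℂˣ))
    (y : H) : ℂ :=
  ∑ i, c i * (lam i y : ℂ)

/-- The combination of linear characters needed for the module `W`. -/
def HasEta (p : ℕ) (M : Ideal AlgInt) (H W : Subgroup X) : Prop :=
  ∃ (ι : Type) (_ : Fintype ι) (c : ι → ℂ) (lam : ι → (H →* ℂˣ)),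
    (∀ i, c i ^ (2 * p) = 1) ∧ (∑ i, c i = 1) ∧
    (∀ (y : H) (σ : ℂ ≃+* ℂ), Complex.normSq (σ (ev c lam y)) *
      (Nat.card ↥(W ⊓ Subgroup.centralizer ({(y : X)} : Set X)) : ℝ) ≤ (Nat.card W : ℝ)) ∧
    (∀ y : H, (∃ w ∈ W, (y : X) * w ≠ w * (y : X)) → ∃ a ∈ M, (a : ℂ) = ev c lam y)

theorem hasEta_of_trivial {p : ℕ} (M : Ideal AlgInt) (H W : Subgroup X) [Finite X]
    (hfix : ∀ y ∈ H, ∀ w ∈ W, y * w = w * y) : HasEta p M H W := by
  refine ⟨Unit, inferInstance, fun _ => 1, fun _ => 1, fun _ => one_pow _, by simp,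
    fun y σ => ?_, fun y ⟨w, hw, hne⟩ => absurd (hfix y y.2 w hw) hne⟩
  simp only [ev, Finset.univ_unique, Finset.sum_singleton, MonoidHom.one_apply, Units.val_one,
    mul_one, map_one, one_mul, Nat.cast_le]
  exact Nat.card_le_card_of_injective (fun x => (⟨x.1, x.2.1⟩ : W))
    fun a b h => Subtype.ext (congrArg (fun z : W => (z : X)) h)

theorem ev_isIntegral [Finite X] {p : ℕ} (hp : 0 < p) {H : Subgroup X} {ι : Type} [Fintype ι]
    (c : ι → ℂ) (hc : ∀ i, c i ^ (2 * p) = 1) (lam : ι → (H →* ℂˣ)) (y : H) :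
    IsIntegral ℤ (ev c lam y) := by
  refine IsIntegral.sum _ fun i _ => IsIntegral.mul (isIntegral_of_pow_eq_one (by omega) (hc i)) ?_
  refine isIntegral_of_pow_eq_one (N := Nat.card H) Nat.card_pos ?_
  rw [← Units.val_pow_eq_pow_val, ← map_pow, pow_card_eq_one', map_one, Units.val_one]

theorem hasEta_mul [Finite X] {p : ℕ} (hp : 0 < p) (M : Ideal AlgInt) {H W W₁ W₂ : Subgroup X}
    (hinv₁ : ∀ y ∈ H, ∀ w ∈ W₁, y * w * y⁻¹ ∈ W₁) (hinv₂ : ∀ y ∈ H, ∀ w ∈ W₂, y * w * y⁻¹ ∈ W₂)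
    (h₁ : W₁ ≤ W) (h₂ : W₂ ≤ W) (hdisj : ∀ a ∈ W₁, a ∈ W₂ → a = 1)
    (hcard : Nat.card W₁ * Nat.card W₂ = Nat.card W) (he₁ : HasEta p M H W₁)
    (he₂ : HasEta p M H W₂) : HasEta p M H W := by
  classical
  obtain ⟨ι₁, i₁, c₁, l₁, hc₁, hs₁, hb₁, hm₁⟩ := he₁
  obtain ⟨ι₂, i₂, c₂, l₂, hc₂, hs₂, hb₂, hm₂⟩ := he₂
  have hinj : Function.Injective (fun q : W₁ × W₂ =>
      (⟨(q.1 : X) * q.2, W.mul_mem (h₁ q.1.2) (h₂ q.2.2)⟩ : W)) := by
    rintro ⟨a, b⟩ ⟨a', b'⟩ h
    have h' : (a : X) * b = a' * b' := congrArg Subtype.val h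
    have e : (a' : X)⁻¹ * a = (b' : X) * (b : X)⁻¹ := by
      calc (a' : X)⁻¹ * a = (a' : X)⁻¹ * ((a : X) * b) * (b : X)⁻¹ := by group
        _ = _ := by rw [h']; group
    have h0 := hdisj _ (W₁.mul_mem (W₁.inv_mem a'.2) a.2)
      (e ▸ W₂.mul_mem b'.2 (W₂.inv_mem b.2))
    have ha : (a : X) = a' := (inv_mul_eq_one.mp h0).symm
    have hb : (b : X) = b' := by rw [ha] at h'; exact mul_left_cancel h'
    exact Prod.ext (Subtype.ext ha) (Subtype.ext hb)
  have hsurj : ∀ w ∈ W, ∃ a ∈ W₁, ∃ b ∈ W₂, a * b = w := by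
    intro w hw
    haveI := Fintype.ofFinite W₁
    haveI := Fintype.ofFinite W₂
    haveI := Fintype.ofFinite W
    obtain ⟨⟨a, b⟩, hab⟩ := ((Fintype.bijective_iff_injective_and_card _).mpr ⟨hinj, by
      rw [← Nat.card_eq_fintype_card, ← Nat.card_eq_fintype_card, Nat.card_prod, hcard]⟩).2 ⟨w, hw⟩
    exact ⟨a, a.2, b, b.2, congrArg Subtype.val hab⟩
  have hev : ∀ y : H, ev (fun i : ι₁ × ι₂ => c₁ i.1 * c₂ i.2) (fun i => l₁ i.1 * l₂ i.2) y =
      ev c₁ l₁ y * ev c₂ l₂ y := fun y => by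
    simp only [ev, Fintype.sum_prod_type, Finset.sum_mul, Finset.mul_sum]
    rw [Finset.sum_comm]
    exact Finset.sum_congr rfl fun i _ => Finset.sum_congr rfl fun j _ => by
      rw [MonoidHom.mul_apply, Units.val_mul]; ring
  refine ⟨ι₁ × ι₂, inferInstance, fun i => c₁ i.1 * c₂ i.2, fun i => l₁ i.1 * l₂ i.2,
    fun i => by rw [mul_pow, hc₁, hc₂, one_mul], ?_, fun y σ => ?_, fun y hy => ?_⟩
  · rw [Fintype.sum_prod_type, ← Finset.sum_mul_sum, hs₁, hs₂, one_mul]
  · rw [hev, map_mul, Complex.normSq_mul, ← hcard, Nat.cast_mul]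
    have hc : Nat.card ↥(W ⊓ Subgroup.centralizer ({(y : X)} : Set X)) ≤
        Nat.card ↥(W₁ ⊓ Subgroup.centralizer ({(y : X)} : Set X)) *
          Nat.card ↥(W₂ ⊓ Subgroup.centralizer ({(y : X)} : Set X)) := by
      rw [← Nat.card_prod]
      refine Nat.card_le_card_of_surjective (fun q => (⟨(q.1 : X) * q.2,
        ⟨W.mul_mem (h₁ q.1.2.1) (h₂ q.2.2.1), Subgroup.mul_mem _ q.1.2.2 q.2.2.2⟩⟩ :
          ↥(W ⊓ Subgroup.centralizer ({(y : X)} : Set X)))) ?_
      rintro ⟨w, hw, hwc⟩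
      obtain ⟨a, ha, b, hb, rfl⟩ := hsurj w hw
      have hwc' : a * b * (y : X) = (y : X) * (a * b) :=
        Subgroup.mem_centralizer_singleton_iff.mp hwc
      have hy' := congrArg Subtype.val (@hinj
        (⟨(y : X) * a * (y : X)⁻¹, hinv₁ y y.2 a ha⟩, ⟨(y : X) * b * (y : X)⁻¹, hinv₂ y y.2 b hb⟩)
        (⟨a, ha⟩, ⟨b, hb⟩) (Subtype.ext (by
          calc (y : X) * a * (y : X)⁻¹ * ((y : X) * b * (y : X)⁻¹)
              = (y : X) * (a * b) * (y : X)⁻¹ := by group
            _ = a * b := by rw [← hwc', mul_inv_cancel_right])) |> Prod.ext_iff.mp |>.1)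
      have hy'' := congrArg Subtype.val (@hinj
        (⟨(y : X) * a * (y : X)⁻¹, hinv₁ y y.2 a ha⟩, ⟨(y : X) * b * (y : X)⁻¹, hinv₂ y y.2 b hb⟩)
        (⟨a, ha⟩, ⟨b, hb⟩) (Subtype.ext (by
          calc (y : X) * a * (y : X)⁻¹ * ((y : X) * b * (y : X)⁻¹)
              = (y : X) * (a * b) * (y : X)⁻¹ := by group
            _ = a * b := by rw [← hwc', mul_inv_cancel_right])) |> Prod.ext_iff.mp |>.2)
      exact ⟨(⟨a, ha, Subgroup.mem_centralizer_singleton_iff.mpr (mul_inv_eq_iff_eq_mul.mp hy').symm⟩,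
        ⟨b, hb, Subgroup.mem_centralizer_singleton_iff.mpr (mul_inv_eq_iff_eq_mul.mp hy'').symm⟩),
        rfl⟩
    calc Complex.normSq (σ (ev c₁ l₁ y)) * Complex.normSq (σ (ev c₂ l₂ y)) *
          (Nat.card ↥(W ⊓ Subgroup.centralizer ({(y : X)} : Set X)) : ℝ)
        ≤ Complex.normSq (σ (ev c₁ l₁ y)) * Complex.normSq (σ (ev c₂ l₂ y)) *
          ((Nat.card ↥(W₁ ⊓ Subgroup.centralizer ({(y : X)} : Set X)) : ℝ) *
            (Nat.card ↥(W₂ ⊓ Subgroup.centralizer ({(y : X)} : Set X)) : ℝ)) := by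
          refine mul_le_mul_of_nonneg_left ?_
            (mul_nonneg (Complex.normSq_nonneg _) (Complex.normSq_nonneg _))
          exact_mod_cast hc
      _ = (Complex.normSq (σ (ev c₁ l₁ y)) *
            (Nat.card ↥(W₁ ⊓ Subgroup.centralizer ({(y : X)} : Set X)) : ℝ)) *
          (Complex.normSq (σ (ev c₂ l₂ y)) *
            (Nat.card ↥(W₂ ⊓ Subgroup.centralizer ({(y : X)} : Set X)) : ℝ)) := by ring
      _ ≤ _ := mul_le_mul (hb₁ y σ) (hb₂ y σ)
          (mul_nonneg (Complex.normSq_nonneg _) (Nat.cast_nonneg _)) (Nat.cast_nonneg _)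
  · obtain ⟨w, hw, hne⟩ := hy
    obtain ⟨a, ha, b, hb, rfl⟩ := hsurj w hw
    by_cases h : (y : X) * a = a * (y : X)
    · have h' : (y : X) * b ≠ b * (y : X) := fun e => hne (by
        rw [← mul_assoc, h, mul_assoc, e, ← mul_assoc])
      obtain ⟨m, hm, hme⟩ := hm₂ y ⟨b, hb, h'⟩
      refine ⟨⟨_, ev_isIntegral hp c₁ hc₁ l₁ y⟩ * m, M.mul_mem_left _ hm, ?_⟩
      rw [hev, ← hme]; rfl
    · obtain ⟨m, hm, hme⟩ := hm₁ y ⟨a, ha, h⟩
      refine ⟨m * ⟨_, ev_isIntegral hp c₂ hc₂ l₂ y⟩, M.mul_mem_right _ hm, ?_⟩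
      rw [hev, ← hme]; rfl

theorem isCyclic_quotient_ker {A : Type*} [AddCommGroup A] [Nontrivial A] {Q : Type*} [Group Q]
    [Finite Q] (φ : Q →* AddMonoid.End A) (hcomm : ∀ a b : Q, a * b = b * a)
    (hirr : ∀ K : AddSubgroup A, (∀ q : Q, ∀ x ∈ K, φ q x ∈ K) → K = ⊥ ∨ K = ⊤) :
    IsCyclic (Q ⧸ φ.ker) := by
  have hcommR : ∀ a ∈ Set.range φ, ∀ b ∈ Set.range φ, a * b = b * a := by
    rintro _ ⟨a, rfl⟩ _ ⟨b, rfl⟩
    rw [← map_mul, ← map_mul, hcomm]
  letI : CommRing (Subring.closure (Set.range φ)) := Subring.closureCommRingOfComm hcommR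
  haveI : Nontrivial (Subring.closure (Set.range φ)) := ⟨⟨0, 1, fun h => by
    obtain ⟨u, hu⟩ := exists_ne (0 : A)
    exact hu (DFunLike.congr_fun (congrArg Subtype.val h) u).symm⟩⟩
  have hinj : ∀ r : Subring.closure (Set.range φ), r ≠ 0 → ∀ u : A,
      (r : AddMonoid.End A) u = 0 → u = 0 := by
    intro r hr u hu
    rcases hirr (AddMonoidHom.ker (r : AddMonoid.End A) : AddSubgroup A) (fun q x hx => by
      have hc : (r : AddMonoid.End A) * φ q = φ q * r :=
        congrArg Subtype.val (mul_comm r (⟨φ q, Subring.subset_closure ⟨q, rfl⟩⟩ :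
          Subring.closure (Set.range φ)))
      have h1 := DFunLike.congr_fun hc x
      have hx' : (r : AddMonoid.End A) x = 0 := hx
      show (r : AddMonoid.End A) (φ q x) = 0
      exact (h1.trans (show φ q ((r : AddMonoid.End A) x) = 0 by rw [hx', map_zero]))) with h | h
    · exact (AddSubgroup.mem_bot (G := A)).mp (h ▸ (hu : u ∈ AddMonoidHom.ker (r : AddMonoid.End A)))
    · exact absurd (Subtype.ext (AddMonoidHom.ext fun v =>
        show (r : AddMonoid.End A) v = 0 from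
          (h ▸ AddSubgroup.mem_top v : v ∈ AddMonoidHom.ker (r : AddMonoid.End A)))) hr
  haveI : NoZeroDivisors (Subring.closure (Set.range φ)) := ⟨fun {a b} h => by
    refine or_iff_not_imp_left.mpr fun ha => Subtype.ext (AddMonoidHom.ext fun u => ?_)
    exact hinj a ha _ (DFunLike.congr_fun (congrArg Subtype.val h) u)⟩
  haveI : IsDomain (Subring.closure (Set.range φ)) := NoZeroDivisors.to_isDomain _
  let φ' : Q →* Subring.closure (Set.range φ) :=
    { toFun := fun y => ⟨φ y, Subring.subset_closure ⟨y, rfl⟩⟩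
      map_one' := Subtype.ext (map_one φ)
      map_mul' := fun a b => Subtype.ext (map_mul φ a b) }
  refine isCyclic_of_injective_ringHom (G := Q ⧸ φ.ker) (QuotientGroup.lift φ.ker φ' fun x hx =>
    Subtype.ext (MonoidHom.mem_ker.mp hx)) ?_
  rintro ⟨x⟩ ⟨y⟩ h
  refine QuotientGroup.eq.mpr (MonoidHom.mem_ker.mpr ?_)
  have h' : φ x = φ y := congrArg Subtype.val h
  rw [map_mul, ← h', ← map_mul, inv_mul_cancel, map_one]

theorem exists_cyclic_kernel [Finite X] {H W : Subgroup X}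
    (hHab : ∀ a ∈ H, ∀ b ∈ H, a * b = b * a) (hWab : ∀ a ∈ W, ∀ b ∈ W, a * b = b * a) (hWne : W ≠ ⊥)
    (hinv : ∀ y ∈ H, ∀ w ∈ W, y * w * y⁻¹ ∈ W)
    (hsemi : ∀ y ∈ H, (∀ w ∈ W, y * w = w * y) ∨ (∀ w ∈ W, y * w = w * y → w = 1)) :
    ∃ (Kr : Subgroup H) (_ : Kr.Normal), IsCyclic (H ⧸ Kr) ∧
      ∀ y : H, y ∈ Kr ↔ ∀ w ∈ W, (y : X) * w = w * (y : X) := by
  classical
  obtain ⟨U, ⟨hUne, hUW, hUinv⟩, hUmin⟩ := (wellFounded_lt (α := Subgroup X)).has_min
    {U : Subgroup X | U ≠ ⊥ ∧ U ≤ W ∧ ∀ y ∈ H, ∀ u ∈ U, y * u * y⁻¹ ∈ U} ⟨W, hWne, le_rfl, hinv⟩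
  haveI : IsMulCommutative U := ⟨⟨fun a b => Subtype.ext (hWab a (hUW a.2) b (hUW b.2))⟩⟩
  letI : CommGroup U := IsMulCommutative.instCommGroup
  haveI : Nontrivial U := (Subgroup.nontrivial_iff_ne_bot U).mpr hUne
  let cf : H → U →* U := fun y =>
    { toFun := fun u => ⟨(y : X) * u * (y : X)⁻¹, hUinv y y.2 u u.2⟩
      map_one' := Subtype.ext (by simp)
      map_mul' := fun u v => Subtype.ext (by simp [mul_assoc]) }
  let φ : H →* AddMonoid.End (Additive U) :=
    { toFun := fun y => MonoidHom.toAdditive (cf y)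
      map_one' := AddMonoidHom.ext fun u => Additive.toMul.injective (Subtype.ext (show
        ((1 : H) : X) * ((Additive.toMul u : U) : X) * ((1 : H) : X)⁻¹ =
          ((Additive.toMul u : U) : X) by simp))
      map_mul' := fun a b => AddMonoidHom.ext fun u => Additive.toMul.injective (Subtype.ext (show
        ((a * b : H) : X) * ((Additive.toMul u : U) : X) * ((a * b : H) : X)⁻¹ =
          (a : X) * ((b : X) * ((Additive.toMul u : U) : X) * (b : X)⁻¹) * (a : X)⁻¹ by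
          simp [mul_assoc])) }
  have hcyc : IsCyclic (H ⧸ φ.ker) := by
    refine isCyclic_quotient_ker φ (fun a b => Subtype.ext (hHab a a.2 b b.2)) fun K hK => ?_
    let K' : Subgroup X := (AddSubgroup.toSubgroup' K).map U.subtype
    have hK'U : K' ≤ U := Subgroup.map_subtype_le _
    by_cases hK0 : K' = ⊥
    · left
      refine (AddSubgroup.eq_bot_iff_forall K).mpr fun x hx => ?_
      have : ((Additive.toMul x : U) : X) ∈ K' := ⟨Additive.toMul x, hx, rfl⟩
      rw [hK0, Subgroup.mem_bot] at this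
      exact Additive.toMul.injective (Subtype.ext this)
    · right
      have hKU : K' = U := by
        by_contra hne
        refine hUmin K' ⟨hK0, hK'U.trans hUW, ?_⟩ (lt_of_le_of_ne hK'U hne)
        rintro y hy _ ⟨u, hu, rfl⟩
        exact ⟨cf ⟨y, hy⟩ u, hK ⟨y, hy⟩ (Additive.ofMul u) hu, rfl⟩
      refine (AddSubgroup.eq_top_iff' K).mpr fun x => ?_
      obtain ⟨u, hu, hux⟩ := (show ((Additive.toMul x : U) : X) ∈ K' from hKU.symm ▸ (Additive.toMul x).2)
      have : u = Additive.toMul x := Subtype.ext hux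
      rw [this] at hu
      exact hu
  refine ⟨φ.ker, inferInstance, hcyc, fun y => ?_⟩
  rw [MonoidHom.mem_ker]
  constructor
  · intro h
    refine (hsemi y y.2).resolve_right fun h' => hUne ((Subgroup.eq_bot_iff_forall U).mpr ?_)
    intro u hu
    have e : (y : X) * u * (y : X)⁻¹ = u := congrArg (fun f : AddMonoid.End (Additive U) =>
      ((Additive.toMul (f (Additive.ofMul (⟨u, hu⟩ : U))) : U) : X)) h
    exact h' u (hUW hu) (mul_inv_eq_iff_eq_mul.mp e)
  · intro h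
    refine AddMonoidHom.ext fun u => Additive.toMul.injective (Subtype.ext ?_)
    show (y : X) * ((Additive.toMul u : U) : X) * (y : X)⁻¹ = _
    rw [h _ (hUW (Additive.toMul u).2), mul_inv_cancel_right]
    rfl

theorem exists_linear [Finite X] {H W : Subgroup X}
    (hHab : ∀ a ∈ H, ∀ b ∈ H, a * b = b * a) (hWab : ∀ a ∈ W, ∀ b ∈ W, a * b = b * a) (hWne : W ≠ ⊥)
    (hinv : ∀ y ∈ H, ∀ w ∈ W, y * w * y⁻¹ ∈ W)
    (hsemi : ∀ y ∈ H, (∀ w ∈ W, y * w = w * y) ∨ (∀ w ∈ W, y * w = w * y → w = 1)) :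
    ∃ lam : H →* ℂˣ, (∀ y : H, lam y = 1 ↔ ∀ w ∈ W, (y : X) * w = w * (y : X)) ∧
      ∀ y : H, lam y ^ (Nat.card W - 1) = 1 := by
  classical
  obtain ⟨Kr, hKn, hcyc, hker⟩ := exists_cyclic_kernel hHab hWab hWne hinv hsemi
  set l := Nat.card (H ⧸ Kr) with hl
  obtain ⟨γ, hγ⟩ := IsCyclic.exists_generator (α := H ⧸ Kr)
  have hγo : orderOf γ = l := orderOf_eq_card_of_forall_mem_zpowers hγ
  have hl0 : 0 < l := Nat.card_pos
  haveI : NeZero l := ⟨hl0.ne'⟩
  have hζ := Complex.isPrimitiveRoot_exp l hl0.ne'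
  set ζu : ℂˣ := (hζ.isUnit hl0.ne').unit with hζu
  have hζo : orderOf ζu = l := by
    rw [← orderOf_units, hζu, IsUnit.unit_spec]
    exact hζ.eq_orderOf.symm
  let em : H ⧸ Kr →* ℂˣ := monoidHomOfForallMemZpowers hγ (g' := ζu) (by rw [hζo, hγo])
  have heminj : Function.Injective em := by
    refine (injective_iff_map_eq_one em).mpr fun x hx => ?_
    obtain ⟨i, rfl⟩ := hγ x
    rw [map_zpow, monoidHomOfForallMemZpowers_apply_gen, ← orderOf_dvd_iff_zpow_eq_one, hζo] at hx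
    rw [← orderOf_dvd_iff_zpow_eq_one, hγo]
    exact hx
  let lam : H →* ℂˣ := em.comp (QuotientGroup.mk' Kr)
  have hlam : ∀ y : H, lam y = 1 ↔ ∀ w ∈ W, (y : X) * w = w * (y : X) := by
    intro y
    rw [← hker y, ← QuotientGroup.eq_one_iff, ← map_eq_one_iff em heminj]
    rfl
  -- the index of the kernel divides `|W| - 1`
  have hdvd : l ∣ Nat.card W - 1 := by
    letI : MulAction H {w : W // w ≠ 1} :=
      { smul := fun y w => ⟨⟨(y : X) * (w.1 : X) * (y : X)⁻¹, hinv y y.2 _ w.1.2⟩, fun h => w.2 (by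
          refine Subtype.ext ?_
          have h1 : (y : X) * (w.1 : X) * (y : X)⁻¹ = 1 := congrArg Subtype.val h
          exact conj_eq_one_iff.mp h1)⟩
        one_smul := fun w => Subtype.ext (Subtype.ext (show
          ((1 : H) : X) * (w.1 : X) * ((1 : H) : X)⁻¹ = (w.1 : X) by simp))
        mul_smul := fun a b w => Subtype.ext (Subtype.ext (show
          ((a * b : H) : X) * (w.1 : X) * ((a * b : H) : X)⁻¹ =
            (a : X) * ((b : X) * (w.1 : X) * (b : X)⁻¹) * (a : X)⁻¹ by simp [mul_assoc])) }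
    haveI := Fintype.ofFinite H
    haveI := Fintype.ofFinite (MulAction.orbitRel.Quotient H {w : W // w ≠ 1})
    haveI : ∀ y : H, Fintype (MulAction.fixedBy {w : W // w ≠ 1} y) := fun y => Fintype.ofFinite _
    have hb := MulAction.sum_card_fixedBy_eq_card_orbits_mul_card_group H {w : W // w ≠ 1}
    have hfix : ∀ y : H, Fintype.card (MulAction.fixedBy {w : W // w ≠ 1} y) =
        if y ∈ Kr then Nat.card W - 1 else 0 := by
      intro y
      split_ifs with hy
      · rw [← Nat.card_eq_fintype_card]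
        rw [hker] at hy
        rw [show MulAction.fixedBy {w : W // w ≠ 1} y = Set.univ from
          Set.eq_univ_of_forall fun w => Subtype.ext (Subtype.ext (by
            show (y : X) * (w.1 : X) * (y : X)⁻¹ = w.1
            rw [hy _ w.1.2, mul_inv_cancel_right]))]
        rw [Nat.card_congr (Equiv.Set.univ _)]
        haveI := Fintype.ofFinite W
        rw [Nat.card_eq_fintype_card, Fintype.card_subtype_compl, Fintype.card_subtype_eq,
          Nat.card_eq_fintype_card]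
      · rw [Fintype.card_eq_zero_iff]
        refine ⟨fun ⟨w, hw⟩ => ?_⟩
        rw [hker] at hy
        have h' := (hsemi y y.2).resolve_left hy
        have e : (y : X) * (w.1 : X) * (y : X)⁻¹ = w.1 :=
          congrArg (fun z : {w : W // w ≠ 1} => (z.1 : X)) hw
        exact w.2 (Subtype.ext (h' _ w.1.2 (mul_inv_eq_iff_eq_mul.mp e)))
    rw [Finset.sum_congr rfl fun y _ => hfix y, ← Finset.sum_filter, Finset.sum_const,
      ← Fintype.card_subtype, smul_eq_mul, ← Nat.card_eq_fintype_card (α := H),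
      ← Nat.card_eq_fintype_card (α := {y : H // y ∈ Kr}),
      Subgroup.card_eq_card_quotient_mul_card_subgroup Kr, ← hl] at hb
    refine ⟨Fintype.card (MulAction.orbitRel.Quotient H {w : W // w ≠ 1}), ?_⟩
    have hK0 : 0 < Nat.card Kr := Nat.card_pos
    refine Nat.eq_of_mul_eq_mul_left hK0 ?_
    calc Nat.card Kr * (Nat.card W - 1)
        = Fintype.card (MulAction.orbitRel.Quotient H {w : W // w ≠ 1}) * (l * Nat.card Kr) := hb
      _ = _ := by ring
  refine ⟨lam, hlam, fun y => ?_⟩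
  obtain ⟨k, hk⟩ := hdvd
  show em (QuotientGroup.mk' Kr y) ^ (Nat.card W - 1) = 1
  rw [hk, ← map_pow, pow_mul, hl, pow_card_eq_one', one_pow, map_one]

theorem hasEta_semiregular [Finite X] {p : ℕ} [hp : Fact p.Prime] {M : Ideal AlgInt}
    (hM : IsPModular p M) {H W : Subgroup X} (hHab : ∀ a ∈ H, ∀ b ∈ H, a * b = b * a)
    (hWab : ∀ a ∈ W, ∀ b ∈ W, a * b = b * a) (hWp : IsPGroup p W)
    (hinv : ∀ y ∈ H, ∀ w ∈ W, y * w * y⁻¹ ∈ W)
    (hsemi : ∀ y ∈ H, (∀ w ∈ W, y * w = w * y) ∨ (∀ w ∈ W, y * w = w * y → w = 1))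
    (hmove : ∃ y ∈ H, ∃ w ∈ W, y * w ≠ w * y) : HasEta p M H W := by
  classical
  obtain ⟨y₀, hy₀, w₀, hw₀, hne₀⟩ := hmove
  have hWne : W ≠ ⊥ := fun h => hne₀ (by
    rw [h, Subgroup.mem_bot] at hw₀; subst hw₀; simp)
  obtain ⟨lam, hlam, hlamW⟩ := exists_linear hHab hWab hWne hinv hsemi
  -- the field
  obtain ⟨n, hn⟩ := IsPGroup.iff_card.mp hWp
  have hn0 : n ≠ 0 := fun h => hWne (Subgroup.card_eq_one.mp (by rw [hn, h, pow_zero]))
  let F := GaloisField p n
  haveI : Fintype F := Fintype.ofFinite F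
  have hF : Fintype.card F = Nat.card W := by
    rw [← Nat.card_eq_fintype_card, GaloisField.card p n hn0, hn]
  obtain ⟨ψ, hψ⟩ : ∃ ψ : AddChar F ℂ, ψ ≠ 1 := by
    obtain ⟨ψ, h⟩ := (AddChar.exists_apply_ne_zero (α := F) (a := 1)).mpr one_ne_zero
    exact ⟨ψ, fun e => h (by rw [e]; rfl)⟩
  obtain ⟨g, hg⟩ := IsCyclic.exists_generator (α := Fˣ)
  set L := Fintype.card F - 1 with hL
  have hψp : ∀ x : F, ψ x ^ p = 1 := fun x => by
    rw [← AddChar.map_nsmul_eq_pow, nsmul_eq_mul, CharP.cast_eq_zero, zero_mul,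
      AddChar.map_zero_eq_one]
  have hlamL : ∀ y : H, lam y ^ L = 1 := fun y => by rw [hL, hF]; exact hlamW y
  refine ⟨Fin L, inferInstance, fun j => -ψ ((g : F) ^ (j : ℕ)), fun j => lam ^ (j : ℕ),
    fun j => ?_, ?_, fun y σ => ?_, fun y hy => ?_⟩
  · rw [pow_mul, neg_sq, ← pow_mul, mul_comm, pow_mul, hψp, one_pow]
  · rw [Finset.sum_neg_distrib, Fin.sum_univ_eq_sum_range (fun j => ψ ((g : F) ^ j))]
    have h1 : ∑ j ∈ Finset.range L, ψ ((g : F) ^ j) = -1 := by
      simpa using sum_gen_eq_neg_one ψ hψ hg (one_ne_zero (α := F))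
    rw [h1, neg_neg]
  · by_cases hy : lam y = 1
    · have h1 : ev (fun j : Fin L => -ψ ((g : F) ^ (j : ℕ))) (fun j : Fin L => lam ^ (j : ℕ)) y =
          ∑ j : Fin L, -ψ ((g : F) ^ (j : ℕ)) := by
        simp [ev, hy]
      have hle : Nat.card ↥(W ⊓ Subgroup.centralizer ({(y : X)} : Set X)) ≤ Nat.card W :=
        Nat.card_le_card_of_injective (fun x => (⟨x.1, x.2.1⟩ : W))
          fun a b h => Subtype.ext (congrArg (fun z : W => (z : X)) h)
      have h2 : ∑ j : Fin L, -ψ ((g : F) ^ (j : ℕ)) = 1 := by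
        rw [Finset.sum_neg_distrib, Fin.sum_univ_eq_sum_range (fun j => ψ ((g : F) ^ j)),
          show ∑ j ∈ Finset.range L, ψ ((g : F) ^ j) = -1 by
            simpa using sum_gen_eq_neg_one ψ hψ hg (one_ne_zero (α := F)), neg_neg]
      rw [h1, h2, map_one, map_one, one_mul]
      exact_mod_cast hle
    · have hsj : (W ⊓ Subgroup.centralizer ({(y : X)} : Set X)) = ⊥ := by
        refine (Subgroup.eq_bot_iff_forall _).mpr fun w hw => ?_
        refine ((hsemi y y.2).resolve_left fun h => hy ((hlam y).mpr h)) w hw.1 ?_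
        exact (Subgroup.mem_centralizer_singleton_iff.mp hw.2).symm
      rw [hsj, Subgroup.card_bot, Nat.cast_one, mul_one, ← hF]
      let ψ' : AddChar F ℂ := (σ : ℂ →* ℂ).compAddChar ψ
      have hψ' : ψ' ≠ 1 := fun h => hψ (AddChar.ext _ _ fun x => σ.injective (by
        rw [AddChar.one_apply, map_one]
        exact (DFunLike.congr_fun h x : ψ' x = 1)))
      have hω : σ (lam y : ℂ) ≠ 1 := fun h => hy (Units.ext (σ.injective (by
        rw [h, Units.val_one, map_one])))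
      have hω' : σ (lam y : ℂ) ^ (Fintype.card F - 1) = 1 := by
        rw [← map_pow, ← Units.val_pow_eq_pow_val, ← hL, hlamL y, Units.val_one, map_one]
      rw [← gauss_normSq ψ' hψ' hg hω hω', ← Fin.sum_univ_eq_sum_range
        (fun j => ψ' ((g : F) ^ j) * σ (lam y : ℂ) ^ j)]
      apply le_of_eq
      rw [← Complex.normSq_neg]
      congr 1
      simp only [ev, map_sum, ← Finset.sum_neg_distrib]
      refine Finset.sum_congr rfl fun j _ => ?_
      simp [ψ']
  · obtain ⟨w, hw, hne⟩ := hy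
    have hy' : lam y ≠ 1 := fun h => hne ((hlam y).mp h w hw)
    have hp1 : 0 < p := hp.out.pos
    let cA : Fin L → AlgInt := fun j =>
      ⟨ψ ((g : F) ^ (j : ℕ)), isIntegral_of_pow_eq_one hp1 (hψp _)⟩
    let oA : AlgInt := ⟨(lam y : ℂ), isIntegral_of_pow_eq_one (N := Nat.card H) Nat.card_pos (by
      rw [← Units.val_pow_eq_pow_val, ← map_pow, pow_card_eq_one', map_one, Units.val_one])⟩
    refine ⟨∑ j : Fin L, -((cA j - 1) * oA ^ (j : ℕ)), M.sum_mem fun j _ => M.neg_mem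
      (M.mul_mem_right _ (sub_one_mem_of_pow hM (j := 1) (Subtype.ext (by
        simpa using hψp _)))), ?_⟩
    have hgeo : ∑ j : Fin L, (lam y : ℂ) ^ (j : ℕ) = 0 := by
      rw [Fin.sum_univ_eq_sum_range (fun j => (lam y : ℂ) ^ j), geom_sum_eq (fun h => hy'
        (Units.ext h)), ← Units.val_pow_eq_pow_val, hlamL y, Units.val_one, sub_self, zero_div]
    calc ((∑ j : Fin L, -((cA j - 1) * oA ^ (j : ℕ)) : AlgInt) : ℂ)
        = ∑ j : Fin L, -((ψ ((g : F) ^ (j : ℕ)) - 1) * (lam y : ℂ) ^ (j : ℕ)) := by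
          simp [cA, oA]
      _ = _ := by
          simp only [ev, MonoidHom.pow_apply, Units.val_pow_eq_pow_val, sub_mul, one_mul,
            neg_sub, Finset.sum_sub_distrib, hgeo, zero_sub, neg_mul, Finset.sum_neg_distrib]

/-- The combination exists for every abelian group acting coprimely. -/
theorem hasEta [Finite X] {p : ℕ} [hp : Fact p.Prime] {M : Ideal AlgInt}
    (hM : IsPModular p M) {H : Subgroup X} (hHab : ∀ a ∈ H, ∀ b ∈ H, a * b = b * a)
    (hcop : ∀ y ∈ H, ¬ p ∣ orderOf y) :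
    ∀ (n : ℕ) (W : Subgroup X), Nat.card W = n → IsPGroup p W →
      (∀ a ∈ W, ∀ b ∈ W, a * b = b * a) → (∀ y ∈ H, ∀ w ∈ W, y * w * y⁻¹ ∈ W) →
      HasEta p M H W := by
  intro n
  induction n using Nat.strong_induction_on with
  | _ n ih =>
    intro W hn hWp hWab hinv
    by_cases hmove : ∃ y ∈ H, ∃ w ∈ W, y * w ≠ w * y
    swap
    · push_neg at hmove
      exact hasEta_of_trivial M H W hmove
    by_cases hsemi : ∀ y ∈ H, (∀ w ∈ W, y * w = w * y) ∨ (∀ w ∈ W, y * w = w * y → w = 1)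
    · exact hasEta_semiregular hM hHab hWab hWp hinv hsemi hmove
    push_neg at hsemi
    obtain ⟨x, hx, ⟨a, ha, hxa⟩, ⟨b, hb, hxb, hb1⟩⟩ := hsemi
    let δ : W →* W :=
      { toFun := fun w => ⟨x * (w : X) * x⁻¹ * (w : X)⁻¹, W.mul_mem (hinv x hx w w.2) (W.inv_mem w.2)⟩
        map_one' := Subtype.ext (by simp)
        map_mul' := fun w v => Subtype.ext (by
          show x * ((w : X) * v) * x⁻¹ * ((w : X) * v)⁻¹ =
            x * (w : X) * x⁻¹ * (w : X)⁻¹ * (x * (v : X) * x⁻¹ * (v : X)⁻¹)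
          have hc : (w : X)⁻¹ * (x * (v : X) * x⁻¹ * (v : X)⁻¹) =
              (x * (v : X) * x⁻¹ * (v : X)⁻¹) * (w : X)⁻¹ :=
            hWab _ (W.inv_mem w.2) _ (W.mul_mem (hinv x hx v v.2) (W.inv_mem v.2))
          rw [mul_assoc (x * (w : X) * x⁻¹), hc]
          group) }
    set W₁ := δ.ker.map W.subtype with hW₁
    set W₂ := δ.range.map W.subtype with hW₂
    have hmem1 : ∀ w, w ∈ W₁ ↔ w ∈ W ∧ x * w = w * x := by
      intro w
      constructor
      · rintro ⟨v, hv, rfl⟩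
        refine ⟨v.2, ?_⟩
        have h : x * (v : X) * x⁻¹ * (v : X)⁻¹ = 1 :=
          congrArg Subtype.val (MonoidHom.mem_ker.mp hv)
        exact mul_inv_eq_iff_eq_mul.mp (mul_inv_eq_one.mp h)
      · rintro ⟨hw, he⟩
        refine ⟨⟨w, hw⟩, MonoidHom.mem_ker.mpr (Subtype.ext ?_), rfl⟩
        show x * w * x⁻¹ * w⁻¹ = 1
        rw [he, mul_inv_cancel_right, mul_inv_cancel]
    have hW₁le : W₁ ≤ W := Subgroup.map_subtype_le _
    have hW₂le : W₂ ≤ W := Subgroup.map_subtype_le _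
    have hinv₁ : ∀ y ∈ H, ∀ w ∈ W₁, y * w * y⁻¹ ∈ W₁ := by
      intro y hy w hw
      rw [hmem1] at hw ⊢
      refine ⟨hinv y hy w hw.1, ?_⟩
      have e1 : x * y = y * x := hHab x hx y hy
      have e2 : x * y⁻¹ = y⁻¹ * x := hHab x hx y⁻¹ (H.inv_mem hy)
      calc x * (y * w * y⁻¹) = y * (x * w) * y⁻¹ := by
            rw [← mul_assoc, ← mul_assoc, e1, mul_assoc y x w]
        _ = y * w * (x * y⁻¹) := by rw [hw.2]; group
        _ = _ := by rw [e2]; group
    have hinv₂ : ∀ y ∈ H, ∀ w ∈ W₂, y * w * y⁻¹ ∈ W₂ := by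
      rintro y hy _ ⟨_, ⟨v, rfl⟩, rfl⟩
      refine ⟨δ ⟨y * (v : X) * y⁻¹, hinv y hy v v.2⟩, ⟨_, rfl⟩, ?_⟩
      show x * (y * (v : X) * y⁻¹) * x⁻¹ * (y * (v : X) * y⁻¹)⁻¹ =
        y * (x * (v : X) * x⁻¹ * (v : X)⁻¹) * y⁻¹
      have e1 : x * y = y * x := hHab x hx y hy
      have e2 : y⁻¹ * x⁻¹ = x⁻¹ * y⁻¹ := hHab y⁻¹ (H.inv_mem hy) x⁻¹ (H.inv_mem hx)
      calc x * (y * (v : X) * y⁻¹) * x⁻¹ * (y * (v : X) * y⁻¹)⁻¹
          = (x * y) * (v : X) * (y⁻¹ * x⁻¹) * y * (v : X)⁻¹ * y⁻¹ := by group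
        _ = _ := by rw [e1, e2]; group
    have hdisj : ∀ w ∈ W₁, w ∈ W₂ → w = 1 := by
      rintro _ hw ⟨_, ⟨v, rfl⟩, rfl⟩
      rw [hmem1] at hw
      set c : X := x * (v : X) * x⁻¹ * (v : X)⁻¹ with hc
      have hcW : c ∈ W := hw.1
      have hxc : x * c = c * x := hw.2
      have hpow : ∀ k : ℕ, x ^ k * (v : X) * (x ^ k)⁻¹ = c ^ k * (v : X) := by
        intro k
        induction k with
        | zero => simp
        | succ k ihk =>
          have hxck : x * c ^ k = c ^ k * x := (show Commute x c from hxc).pow_right k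
          calc x ^ (k + 1) * (v : X) * (x ^ (k + 1))⁻¹
              = x * (x ^ k * (v : X) * (x ^ k)⁻¹) * x⁻¹ := by rw [pow_succ']; group
            _ = (x * c ^ k) * (v : X) * x⁻¹ := by rw [ihk]; group
            _ = c ^ k * (x * (v : X) * x⁻¹) := by rw [hxck]; group
            _ = c ^ k * (c * (v : X)) := by rw [hc]; group
            _ = _ := by rw [← mul_assoc, ← pow_succ]
      have hk := hpow (orderOf x)
      rw [pow_orderOf_eq_one, one_mul, inv_one, mul_one, eq_comm, mul_eq_right] at hk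
      have h1 : orderOf c ∣ orderOf x := orderOf_dvd_of_pow_eq_one hk
      obtain ⟨j, hj⟩ := hWp ⟨c, hcW⟩
      have h2 : orderOf c ∣ p ^ j := orderOf_dvd_of_pow_eq_one (congrArg Subtype.val hj)
      have h3 : Nat.Coprime (orderOf x) (p ^ j) :=
        ((hp.out.coprime_iff_not_dvd.mpr (hcop x hx)).symm).pow_right j
      have h4 := Nat.dvd_gcd h1 h2
      rw [h3.gcd_eq_one] at h4
      exact orderOf_eq_one_iff.mp (Nat.dvd_one.mp h4)
    have hcard : Nat.card W₁ * Nat.card W₂ = Nat.card W := by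
      rw [hW₁, hW₂, Subgroup.card_subtype, Subgroup.card_subtype,
        ← Subgroup.card_mul_index δ.ker, Subgroup.index_ker]
    have hlt₁ : Nat.card W₁ < n := by
      rw [← hn]
      refine lt_of_le_of_ne (Subgroup.card_le_of_le hW₁le) fun h => hxa ?_
      have := Subgroup.eq_of_le_of_card_ge hW₁le h.ge
      exact ((hmem1 a).mp (this ▸ ha)).2
    have hlt₂ : Nat.card W₂ < n := by
      have h1 : 1 < Nat.card W₁ := by
        refine Finite.one_lt_card_iff_nontrivial.mpr ((Subgroup.nontrivial_iff_ne_bot _).mpr ?_)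
        intro h
        exact hb1 (Subgroup.mem_bot.mp (h ▸ (hmem1 b).mpr ⟨hb, hxb⟩))
      rw [← hn, ← hcard]
      exact (lt_mul_iff_one_lt_left Nat.card_pos).mpr h1
    exact hasEta_mul hp.out.pos M hinv₁ hinv₂ hW₁le hW₂le hdisj hcard
      (ih _ hlt₁ W₁ rfl (hWp.to_le hW₁le) (fun a ha b hb => hWab a (hW₁le ha) b (hW₁le hb)) hinv₁)
      (ih _ hlt₂ W₂ rfl (hWp.to_le hW₂le) (fun a ha b hb => hWab a (hW₂le ha) b (hW₂le hb)) hinv₂)

end Cfsg.Agent.Block.KGV
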