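import Mathlib
import Cfsg.Agent.Lib.Block.CentralizerBound
import Cfsg.Agent.Lib.Block.KGV.Conjugates
import Cfsg.Agent.Lib.Block.KGV.GaussEta

/-!
`k(VG) ≤ |V|` from a vector whose stabiliser is abelian.
-/

set_option autoImplicit false
set_option linter.unusedSectionVars false

namespace Cfsg.Agent.Block.KGV

open scoped ComplexConjugate
open Cfsg Cfsg.Agent.Char

universe u

variable {X : Type u} [Group X]

theorem classNumber_le [Finite X] {p : ℕ} [hp : Fact p.Prime] {M : Ideal AlgInt}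
    (hM : IsPModular p M) (V : Subgroup X) [V.Normal] (hVexp : ∀ v ∈ V, v ^ p = 1)
    (hab : ∀ a ∈ V, ∀ b ∈ V, a * b = b * a) (hidx : ¬ p ∣ V.index)
    (G : Subgroup X) (hGV : Subgroup.IsComplement' V G) {v : X} (hv : v ∈ V) {H : Subgroup X}
    (hH : H = G ⊓ Subgroup.centralizer ({v} : Set X))
    (hHab : ∀ a ∈ H, ∀ b ∈ H, a * b = b * a)
    (hmove : ∀ y ∈ H, y ≠ 1 → ∃ w ∈ V, y * w ≠ w * y)
    (heta : HasEta p M H V) : Nat.card (ConjClasses X) ≤ Nat.card V := by
  classical
  cases nonempty_fintype X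
  haveI := Fintype.ofFinite H
  obtain ⟨ι, _, c, lam, hc, hc1, hbound, hmod⟩ := heta
  have hVp : IsPGroup p V := fun a => ⟨1, by
    rw [pow_one]; exact Subtype.ext (by simpa using hVexp a a.2)⟩
  have hvH : ∀ y ∈ H, v * y = y * v := fun y hy => by
    rw [hH] at hy
    exact (Subgroup.mem_centralizer_singleton_iff.mp hy.2).symm
  have hHG : H ≤ G := hH ▸ inf_le_left
  set N := Nat.card X * (2 * p) with hN
  have hN0 : 0 < N := Nat.mul_pos Nat.card_pos (by have := hp.out.pos; omega)
  have hh0 : (Nat.card H : ℂ) ≠ 0 := Nat.cast_ne_zero.mpr Nat.card_pos.ne'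
  set m : IrrCharacter X → ℂ := fun χ =>
    (Nat.card H : ℂ)⁻¹ * ∑ y : H, (χ : X → ℂ) (v * y) * ev c lam y with hm
  -- the group `⟨v⟩ H`
  set A := Subgroup.closure (insert v (H : Set X)) with hA
  have hvA : v ∈ A := Subgroup.subset_closure (Set.mem_insert _ _)
  have hHA : ∀ y : H, (y : X) ∈ A := fun y =>
    Subgroup.subset_closure (Set.mem_insert_of_mem _ y.2)
  have hAab : ∀ a b : A, a * b = b * a := by
    haveI : IsMulCommutative A := Subgroup.isMulCommutative_closure (by
      intro a ha b hb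
      rcases ha with rfl | ha <;> rcases hb with rfl | hb
      · rfl
      · exact hvH b hb
      · exact (hvH a ha).symm
      · exact hHab a ha b hb)
    exact fun a b => IsMulCommutative.is_comm.comm a b
  haveI := Fintype.ofFinite A
  have hrepr : ∀ χ : IrrCharacter X, m χ ∈ cycSpan N ∧ IsIntegral ℤ (m χ) := by
    intro χ
    obtain ⟨a, ha, hdec⟩ := IsChar.exists_decomp_inner (IsChar.res (IsIrr.isCharacter χ.2) A)
    choose l hl using fun φ : IrrCharacter A => linearHom_of_isCharacter (IsIrr.isCharacter φ.2)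
      (IsIrr.one_of_comm hAab φ.2)
    let emb : H →* A :=
      { toFun := fun y => ⟨y, hHA y⟩
        map_one' := rfl
        map_mul' := fun _ _ => rfl }
    have hexp : m χ = ∑ φ : IrrCharacter A, ∑ i : ι, (a φ : ℂ) * (c i * (l φ ⟨v, hvA⟩ : ℂ) *
        (if (l φ).comp emb * lam i = 1 then 1 else 0)) := by
      have hav : ∀ (φ : IrrCharacter A) (i : ι),
          (Nat.card H : ℂ)⁻¹ * ∑ y : H, (((l φ).comp emb * lam i) y : ℂ) =
          if (l φ).comp emb * lam i = 1 then 1 else 0 := by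
        intro φ i
        split_ifs with h
        · simp only [h, MonoidHom.one_apply, Units.val_one, Finset.sum_const, Finset.card_univ,
            nsmul_eq_mul, mul_one, ← Nat.card_eq_fintype_card]
          exact inv_mul_cancel₀ hh0
        · rw [linear_sum _ h, mul_zero]
      simp only [hm, ← hav, Finset.mul_sum]
      symm
      rw [Finset.sum_congr rfl fun φ _ => Finset.sum_comm, Finset.sum_comm]
      symm
      refine Finset.sum_congr rfl fun y _ => ?_
      have hval : (χ : X → ℂ) (v * y) =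
          ∑ φ : IrrCharacter A, (a φ : ℂ) * ((l φ ⟨v, hvA⟩ : ℂ) * (((l φ).comp emb) y : ℂ)) := by
        have := congrFun hdec (⟨v, hvA⟩ * emb y)
        rw [sum_irr_apply] at this
        rw [show (χ : X → ℂ) (v * y) = _ from this]
        refine Finset.sum_congr rfl fun φ _ => ?_
        rw [congrFun (hl φ), map_mul, Units.val_mul]
        rfl
      rw [hval, ev, Finset.sum_mul, Finset.mul_sum]
      refine Finset.sum_congr rfl fun φ _ => ?_
      rw [Finset.mul_sum, Finset.mul_sum]
      exact Finset.sum_congr rfl fun i _ => by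
        rw [MonoidHom.mul_apply, Units.val_mul]; ring
    have hroot : ∀ φ : IrrCharacter A, (l φ ⟨v, hvA⟩ : ℂ) ^ Nat.card X = 1 := fun φ => by
      rw [← Units.val_pow_eq_pow_val, ← map_pow,
        show (⟨v, hvA⟩ : A) ^ Nat.card X = 1 from Subtype.ext (by simp), map_one, Units.val_one]
    rw [hexp]
    refine ⟨sum_mem fun φ _ => sum_mem fun i _ => mul_mem (natCast_mem _ _) (mul_mem (mul_mem
      (root_mem_cycSpan hN0 ?_) (root_mem_cycSpan hN0 ?_)) ?_), IsIntegral.sum _ fun φ _ =>
      IsIntegral.sum _ fun i _ => IsIntegral.mul (isIntegral_algebraMap (R := ℤ) (x := (a φ : ℤ)))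
        (IsIntegral.mul (IsIntegral.mul
          (isIntegral_of_pow_eq_one (by have := hp.out.pos; omega) (hc i))
          (isIntegral_of_pow_eq_one Nat.card_pos (hroot φ))) ?_)⟩
    · rw [hN, mul_comm, pow_mul, hc, one_pow]
    · rw [hN, pow_mul, hroot, one_pow]
    · split_ifs
      · exact one_mem _
      · exact zero_mem _
    · split_ifs
      · exact isIntegral_one
      · exact isIntegral_zero
  have hne : ∀ χ : IrrCharacter X, m χ ≠ 0 := by
    intro χ h0
    have hsum : ∑ y : H, (χ : X → ℂ) (v * y) * ev c lam y = 0 := by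
      have h0' : (Nat.card H : ℂ)⁻¹ * ∑ y : H, (χ : X → ℂ) (v * y) * ev c lam y = 0 := h0
      exact (mul_eq_zero.mp h0').resolve_left (inv_ne_zero hh0)
    let T : H → AlgInt := fun y => ⟨(χ : X → ℂ) (v * y) * ev c lam y,
      IsIntegral.mul (IsChar.isIntegral (IsIrr.isCharacter χ.2) _)
        (ev_isIntegral hp.out.pos c hc lam y)⟩
    have hTM : ∀ y : H, y ≠ 1 → T y ∈ M := by
      intro y hy
      obtain ⟨b, hb, hbe⟩ := hmod y (hmove y y.2 fun h => hy (Subtype.ext h))
      have : T y = (⟨_, IsChar.isIntegral (IsIrr.isCharacter χ.2) (v * (y : X))⟩ : AlgInt) * b :=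
        Subtype.ext (by
          show (χ : X → ℂ) (v * y) * ev c lam y = (χ : X → ℂ) (v * (y : X)) * (b : ℂ)
          rw [hbe])
      rw [this]
      exact M.mul_mem_left _ hb
    have hT0 : ∑ y : H, T y = 0 := by
      refine Subtype.ext ?_
      rw [AddSubmonoidClass.coe_finsetSum]
      exact hsum
    have h1 : T 1 ∈ M := by
      rw [← Finset.add_sum_erase Finset.univ T (Finset.mem_univ 1)] at hT0
      rw [eq_neg_of_add_eq_zero_left hT0]
      exact M.neg_mem (M.sum_mem fun y hy => hTM y (Finset.mem_erase.mp hy).1)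
    have hT1 : T 1 = (⟨(χ : X → ℂ) v, IsChar.isIntegral (IsIrr.isCharacter χ.2) v⟩ : AlgInt) := by
      refine Subtype.ext ?_
      show (χ : X → ℂ) (v * ((1 : H) : X)) * ev c lam 1 = (χ : X → ℂ) v
      simp [ev, hc1]
    haveI := Fintype.ofFinite V
    obtain ⟨θ, hθ⟩ := IsChar.exists_constituent' (IsChar.res (IsIrr.isCharacter χ.2) V) (by
      show (χ : X → ℂ) ((1 : V) : X) ≠ 0
      rw [Subgroup.coe_one]; exact IsIrr.one_ne_zero χ.2)
    obtain ⟨e, he, hed⟩ := Ext.ratio_dvd_index' (G := X) (N := V) χ.2 θ.2 hθ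
    rw [IsIrr.one_of_comm (fun a b => Subtype.ext (hab a a.2 b b.2)) θ.2, mul_one] at he
    obtain ⟨j, -, hj⟩ := (Nat.dvd_prime_pow hp.out).mp (orderOf_dvd_of_pow_eq_one
      (show v ^ p ^ 1 = 1 by rw [pow_one]; exact hVexp v hv))
    have hmem := IsChar.sub_degree_mem (IsIrr.isCharacter χ.2) hM (g := v) ⟨j, hj⟩
    rw [← hT1, sub_eq_add_neg, M.add_mem_iff_right h1, neg_mem_iff] at hmem
    rw [show (⟨(χ : X → ℂ) 1, IsChar.isIntegral (IsIrr.isCharacter χ.2) 1⟩ : AlgInt) =
      (e : AlgInt) from Subtype.ext (by simpa using he), natCast_mem_iff hM] at hmem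
    exact hidx (hmem.trans hed)
  have huniq : ∀ a ∈ V, ∀ g ∈ G, ∀ a' ∈ V, ∀ g' ∈ G, a * g = a' * g' → a = a' ∧ g = g' := by
    intro a ha g hg a' ha' g' hg' h
    have h2 := hGV.1 (a₁ := (⟨a, ha⟩, ⟨g, hg⟩)) (a₂ := (⟨a', ha'⟩, ⟨g', hg'⟩)) h
    exact ⟨congrArg Subtype.val (Prod.ext_iff.mp h2).1, congrArg Subtype.val (Prod.ext_iff.mp h2).2⟩
  have hvord : ∀ y : H, (orderOf v).Coprime (orderOf (y : X)) := by
    intro y
    refine Nat.Coprime.coprime_dvd_left (orderOf_dvd_of_pow_eq_one (hVexp v hv))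
      ((hp.out.coprime_iff_not_dvd).mpr fun h => hidx ?_)
    have h2 : orderOf (y : X) ∣ Nat.card G := by
      rw [show (y : X) = ((⟨y, hHG y.2⟩ : G) : X) from rfl, Subgroup.orderOf_coe]
      exact orderOf_dvd_natCard _
    rw [← hGV.symm.index_eq_card] at h2
    exact h.trans h2
  have hpowv : ∀ y : H, ∃ k : ℕ, (v * (y : X)) ^ k = v ∧ k % orderOf (y : X) = 0 := by
    intro y
    obtain ⟨k, hk1, hk2⟩ := Nat.chineseRemainder (hvord y) 1 0
    refine ⟨k, ?_, hk2⟩
    rw [(show Commute v (y : X) from hvH y y.2).mul_pow, pow_eq_pow_iff_modEq.mpr hk1,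
      pow_one, pow_eq_pow_iff_modEq.mpr hk2, pow_zero, mul_one]
  have hfix : ∀ (y : H) (g : X), g * (v * y) * g⁻¹ = v * y → g * v * g⁻¹ = v := by
    intro y g hg
    obtain ⟨k, hk, -⟩ := hpowv y
    rw [← hk, ← conj_pow, hg]
  have hdecomp : ∀ g : X, g * v * g⁻¹ = v → ∃ a ∈ V, ∃ h ∈ H, g = a * h := by
    intro g hg
    obtain ⟨⟨⟨a, ha⟩, ⟨h, hh⟩⟩, hah⟩ := hGV.2 g
    refine ⟨a, ha, h, ?_, hah.symm⟩
    rw [hH]
    refine ⟨hh, Subgroup.mem_centralizer_singleton_iff.mpr ?_⟩
    have hah' : g = a * h := hah.symm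
    rw [hah', mul_inv_rev] at hg
    have h1 : h * v * h⁻¹ = v := by
      have hva : a⁻¹ * v * a = v := by rw [mul_assoc, hab v hv a ha, inv_mul_cancel_left]
      calc h * v * h⁻¹ = a⁻¹ * (a * h * v * (h⁻¹ * a⁻¹)) * a := by group
        _ = v := by rw [hg, hva]
    exact mul_inv_eq_iff_eq_mul.mp h1
  have hconj : ∀ y z : H, IsConj (v * (y : X)) (v * (z : X)) → y = z := by
    intro y z h
    obtain ⟨g, hg⟩ := isConj_iff.mp h
    have hgv : g * v * g⁻¹ = v := by
      obtain ⟨k1, hk11, hk12⟩ := Nat.chineseRemainder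
        (Nat.Coprime.mul_right (hvord y) (hvord z)) 1 0
      have hy0 : k1 ≡ 0 [MOD orderOf (y : X)] := Nat.ModEq.of_mul_right _ hk12
      have hz0 : k1 ≡ 0 [MOD orderOf (z : X)] := Nat.ModEq.of_mul_left _ hk12
      have e1 : (v * (y : X)) ^ k1 = v := by
        rw [(show Commute v (y : X) from hvH y y.2).mul_pow, pow_eq_pow_iff_modEq.mpr hk11,
          pow_one, pow_eq_pow_iff_modEq.mpr hy0, pow_zero, mul_one]
      have e2 : (v * (z : X)) ^ k1 = v := by
        rw [(show Commute v (z : X) from hvH z z.2).mul_pow, pow_eq_pow_iff_modEq.mpr hk11,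
          pow_one, pow_eq_pow_iff_modEq.mpr hz0, pow_zero, mul_one]
      calc g * v * g⁻¹ = g * (v * (y : X)) ^ k1 * g⁻¹ := by rw [e1]
        _ = (g * (v * (y : X)) * g⁻¹) ^ k1 := conj_pow.symm
        _ = v := by rw [hg, e2]
    obtain ⟨a, ha, h, hh, rfl⟩ := hdecomp g hgv
    have h1 : a * h * (y : X) * (a * h)⁻¹ = (z : X) := by
      have := hg
      rw [show a * h * (v * (y : X)) * (a * h)⁻¹ =
        (a * h * v * (a * h)⁻¹) * (a * h * (y : X) * (a * h)⁻¹) by group, hgv] at this
      exact mul_left_cancel this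
    have h2 : a * h * (y : X) * (a * h)⁻¹ = a * ((y : X) * a⁻¹ * (y : X)⁻¹) * (y : X) := by
      rw [mul_inv_rev, show a * h * (y : X) * (h⁻¹ * a⁻¹) = a * (h * (y : X) * h⁻¹) * a⁻¹ by group,
        hHab h hh y y.2, mul_inv_cancel_right]
      group
    rw [h2] at h1
    have := huniq _ (V.mul_mem ha (‹V.Normal›.conj_mem _ (V.inv_mem ha) (y : X))) _ (hHG y.2) 1
      V.one_mem _ (hHG z.2) (by rw [h1, one_mul])
    exact Subtype.ext this.2
  have hcent : ∀ y : H, Nat.card (Subgroup.centralizer ({v * (y : X)} : Set X)) =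
      Nat.card ↥(V ⊓ Subgroup.centralizer ({(y : X)} : Set X)) * Nat.card H := by
    intro y
    rw [← Nat.card_prod]
    refine (Nat.card_eq_of_bijective
      (fun q : ↥(V ⊓ Subgroup.centralizer ({(y : X)} : Set X)) × H =>
        (⟨(q.1 : X) * q.2, Subgroup.mem_centralizer_singleton_iff.mpr (by
          obtain ⟨⟨a, haV, hac⟩, h⟩ := q
          show a * (h : X) * (v * y) = v * y * (a * h)
          have h1 : a * (y : X) = (y : X) * a := Subgroup.mem_centralizer_singleton_iff.mp hac
          have h2 : (h : X) * y = y * h := hHab h h.2 y y.2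
          calc a * (h : X) * (v * y) = a * ((h : X) * v) * y := by group
            _ = a * v * ((h : X) * y) := by rw [← hvH h h.2]; group
            _ = v * (a * y) * h := by rw [h2, hab a haV v hv]; group
            _ = _ := by rw [h1]; group)⟩ : Subgroup.centralizer ({v * (y : X)} : Set X)))
      ⟨fun q q' hq => ?_, fun g => ?_⟩).symm
    · have h' : (q.1 : X) * (q.2 : X) = q'.1 * q'.2 := congrArg Subtype.val hq
      have := huniq _ q.1.2.1 _ (hHG q.2.2) _ q'.1.2.1 _ (hHG q'.2.2) h'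
      exact Prod.ext (Subtype.ext this.1) (Subtype.ext this.2)
    · have hg : (g : X) * (v * y) * (g : X)⁻¹ = v * y := by
        rw [Subgroup.mem_centralizer_singleton_iff.mp g.2, mul_inv_cancel_right]
      have hgv := hfix y g hg
      obtain ⟨a, ha, h, hh, hgah⟩ := hdecomp g hgv
      refine ⟨(⟨a, ha, Subgroup.mem_centralizer_singleton_iff.mpr ?_⟩, ⟨h, hh⟩), Subtype.ext hgah.symm⟩
      rw [hgah] at hg hgv
      have h1 : a * h * (y : X) * (a * h)⁻¹ = (y : X) := by
        rw [show a * h * (v * (y : X)) * (a * h)⁻¹ =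
          (a * h * v * (a * h)⁻¹) * (a * h * (y : X) * (a * h)⁻¹) by group, hgv] at hg
        exact mul_left_cancel hg
      rw [mul_inv_rev, show a * h * (y : X) * (h⁻¹ * a⁻¹) = a * (h * (y : X) * h⁻¹) * a⁻¹ by group,
        hHab h hh y y.2, mul_inv_cancel_right] at h1
      exact mul_inv_eq_iff_eq_mul.mp h1
  have hbnd : ∀ σ : ℂ ≃+* ℂ, ∑ χ : IrrCharacter X, Complex.normSq (σ (m χ)) ≤ (Nat.card V : ℝ) := by
    intro σ
    let π : IrrCharacter X → IrrCharacter X := fun χ => ⟨_, IsIrr.map_ringAut χ.2 σ⟩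
    have hπ : Function.Bijective π := Finite.injective_iff_bijective.mp fun a b h =>
      Subtype.ext (funext fun g => σ.injective (congrFun (congrArg Subtype.val h) g))
    set η : H → ℂ := fun y => σ (ev c lam y) with hη
    have hσm : ∀ χ, σ (m χ) =
        (Nat.card H : ℂ)⁻¹ * ∑ y : H, ((π χ : IrrCharacter X) : X → ℂ) (v * y) * η y := fun χ => by
      simp [hm, hη, π, map_sum]
    simp only [hσm]
    rw [hπ.sum_comp (fun χ : IrrCharacter X =>
      Complex.normSq ((Nat.card H : ℂ)⁻¹ * ∑ y : H, (χ : X → ℂ) (v * y) * η y))]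
    have key : ((∑ χ : IrrCharacter X, Complex.normSq ((Nat.card H : ℂ)⁻¹ *
        ∑ y : H, (χ : X → ℂ) (v * y) * η y) : ℝ) : ℂ) =
        ((((Nat.card H : ℝ)⁻¹) * ∑ y : H, Complex.normSq (η y) *
          (Nat.card ↥(V ⊓ Subgroup.centralizer ({(y : X)} : Set X)) : ℝ) : ℝ) : ℂ) := by
      rw [Complex.ofReal_sum, Complex.ofReal_mul, Complex.ofReal_inv, Complex.ofReal_natCast,
        Complex.ofReal_sum]
      simp only [Complex.ofReal_mul, Complex.ofReal_natCast, ← Complex.mul_conj]
      simp only [map_mul, map_inv₀, map_natCast, map_sum]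
      calc ∑ χ : IrrCharacter X, ((Nat.card H : ℂ)⁻¹ * ∑ y : H, (χ : X → ℂ) (v * y) * η y) *
            ((Nat.card H : ℂ)⁻¹ * ∑ z : H, conj ((χ : X → ℂ) (v * z)) * conj (η z))
          = (Nat.card H : ℂ)⁻¹ ^ 2 * ∑ y : H, ∑ z : H, η y * conj (η z) *
              ∑ χ : IrrCharacter X, (χ : X → ℂ) (v * y) * conj ((χ : X → ℂ) (v * z)) := by
            simp only [Finset.mul_sum, Finset.sum_mul]
            rw [Finset.sum_comm]
            conv_lhs => enter [2, y]; rw [Finset.sum_comm]
            conv_lhs => rw [Finset.sum_comm]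
            exact Finset.sum_congr rfl fun y _ => Finset.sum_congr rfl fun z _ =>
              Finset.sum_congr rfl fun χ _ => by ring
        _ = _ := by
            rw [Finset.mul_sum, Finset.mul_sum]
            refine Finset.sum_congr rfl fun y _ => ?_
            rw [Finset.sum_eq_single y, sum_irr_mul_conj, if_pos (IsConj.refl _), hcent y,
              Nat.cast_mul]
            · field_simp
            · intro z _ hz
              rw [sum_irr_mul_conj, if_neg, mul_zero]
              intro h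
              first
                | exact hz (hconj y z h).symm
                | exact hz (hconj z y h)
            · simp
    rw [Complex.ofReal_inj.mp key]
    calc (Nat.card H : ℝ)⁻¹ * ∑ y : H, Complex.normSq (η y) *
          (Nat.card ↥(V ⊓ Subgroup.centralizer ({(y : X)} : Set X)) : ℝ)
        ≤ (Nat.card H : ℝ)⁻¹ * ∑ _y : H, (Nat.card V : ℝ) :=
          mul_le_mul_of_nonneg_left (Finset.sum_le_sum fun y _ => hbound y σ)
            (inv_nonneg.mpr (Nat.cast_nonneg _))
      _ = _ := by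
          rw [Finset.sum_const, Finset.card_univ, nsmul_eq_mul, ← Nat.card_eq_fintype_card,
            inv_mul_cancel_left₀ (Nat.cast_ne_zero.mpr Nat.card_pos.ne')]
  have h := card_le_of_conjugates hN0 m (fun χ => (hrepr χ).1) (fun χ => (hrepr χ).2) hne hbnd
  rw [← Nat.card_eq_fintype_card, card_irrCharacter] at h
  exact_mod_cast h

theorem classNumber_le_of_abelian_stabilizer [Finite X] {p : ℕ} [hp : Fact p.Prime] (V : Subgroup X)
    [V.Normal] (hVexp : ∀ v ∈ V, v ^ p = 1) (hidx : ¬ p ∣ V.index)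
    (hself : Subgroup.centralizer (V : Set X) = V) (G : Subgroup X)
    (hGV : Subgroup.IsComplement' V G) {v : X} (hv : v ∈ V)
    (hHab : ∀ a ∈ G ⊓ Subgroup.centralizer ({v} : Set X),
      ∀ b ∈ G ⊓ Subgroup.centralizer ({v} : Set X), a * b = b * a) :
    Nat.card (ConjClasses X) ≤ Nat.card V := by
  obtain ⟨M, hM⟩ := exists_isPModular p hp.out
  have hab : ∀ a ∈ V, ∀ b ∈ V, a * b = b * a := fun a ha b hb => by
    have h : b ∈ Subgroup.centralizer (V : Set X) := hself.symm ▸ hb
    exact Subgroup.mem_centralizer_iff.mp h a ha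
  have hVp : IsPGroup p V := fun a => ⟨1, by
    rw [pow_one]; exact Subtype.ext (by simpa using hVexp a a.2)⟩
  refine classNumber_le hM V hVexp hab hidx G hGV hv rfl hHab (fun y hy hy1 => ?_) ?_
  · by_contra hall
    push_neg at hall
    have : y ∈ V := hself ▸ Subgroup.mem_centralizer_iff.mpr fun w hw => (hall w hw).symm
    exact hy1 (Subgroup.mem_bot.mp (hGV.disjoint.le_bot ⟨this, hy.1⟩))
  · refine hasEta hM hHab (fun y hy h => hidx ?_) (Nat.card V) V rfl hVp hab
      (fun y _ w hw => ‹V.Normal›.conj_mem w hw y)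
    rw [hGV.symm.index_eq_card]
    refine h.trans ?_
    rw [show y = ((⟨y, hy.1⟩ : G) : X) from rfl, Subgroup.orderOf_coe]
    exact orderOf_dvd_natCard _

end Cfsg.Agent.Block.KGV
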